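import Mathlib.CategoryTheory.Galois.GaloisObjects
import Mathlib.CategoryTheory.Galois.Decomposition
import Mathlib.CategoryTheory.Limits.Preserves.Shapes.Products

/-! # A fully faithful exact functor of Galois categories reaching all Galois objects is essentially surjective -/

set_option autoImplicit false
universe w u v₁ v₂

open CategoryTheory CategoryTheory.Limits CategoryTheory.PreGaloisCategory

noncomputable section

namespace SpecPrime

theorem essSurj_of_galois {C : Type v₁} [Category.{u} C] [GaloisCategory C] {D : Type v₂} [Category.{u} D]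
    [PreGaloisCategory D] (E : D ⥤ C) [E.Full] [E.Faithful] (F : C ⥤ FintypeCat.{u}) [FiberFunctor F]
    (F' : D ⥤ FintypeCat.{u}) [FiberFunctor F'] (i : E ⋙ F ≅ F')
    (h : ∀ A : C, IsGalois A → E.essImage A) : E.EssSurj := by
  have hconn : ∀ V : C, IsConnected V → E.essImage V := by
    intro V hV
    obtain ⟨A, u, hA⟩ := exists_hom_from_galois_of_connected F V
    obtain ⟨Y, ⟨e⟩⟩ := h A hA
    let H : Subgroup (Aut A) :=
      { carrier := {σ | σ.hom ≫ u = u}
        one_mem' := Category.id_comp u
        mul_mem' := fun {a b} (ha : a.hom ≫ u = u) (hb : b.hom ≫ u = u) => by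
          show (b.hom ≫ a.hom) ≫ u = u
          rw [Category.assoc, ha, hb]
        inv_mem' := fun {a} (ha : a.hom ≫ u = u) => by
          show a.inv ≫ u = u
          rw [Iso.inv_comp_eq, ha] }
    let J : SingleObj H ⥤ C := SingleObj.functor ((Aut.toEnd A).comp H.subtype)
    let ρ : H →* End Y :=
      { toFun := fun σ => E.preimage (e.hom ≫ (σ : Aut A).hom ≫ e.inv)
        map_one' := E.map_injective (by
          rw [E.map_preimage]
          show e.hom ≫ 𝟙 A ≫ e.inv = E.map (𝟙 Y)
          simp)
        map_mul' := fun σ τ => E.map_injective (by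
          rw [E.map_preimage]
          show e.hom ≫ ((τ : Aut A).hom ≫ (σ : Aut A).hom) ≫ e.inv = E.map (E.preimage _ ≫ E.preimage _)
          rw [E.map_comp, E.map_preimage, E.map_preimage]
          simp) }
    let J' : SingleObj H ⥤ D := SingleObj.functor ρ
    let η : J' ⋙ E ≅ J := NatIso.ofComponents (fun _ => e) fun σ => by
      show E.map (E.preimage (e.hom ≫ (σ : H).1.hom ≫ e.inv)) ≫ e.hom = e.hom ≫ (σ : H).1.hom
      simp
    haveI : PreservesColimitsOfShape (SingleObj H) (E ⋙ F) := preservesColimitsOfShape_of_natIso i.symm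
    haveI : ReflectsColimitsOfShape (SingleObj H) F := reflectsColimitsOfShape_of_reflectsIsomorphisms
    haveI : PreservesColimitsOfShape (SingleObj H) E := preservesColimitsOfShape_of_reflects_of_preserves E F
    let s : Cocone J :=
      { pt := V
        ι :=
          { app := fun _ => u
            naturality := fun _ _ σ => by
              show (σ : H).1.hom ≫ u = u ≫ 𝟙 V
              rw [Category.comp_id]
              exact (σ : H).2 } }
    let d : colimit J ⟶ V := colimit.desc J s
    let ι₀ : A ⟶ colimit J := colimit.ι J (SingleObj.star H)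
    have hd : ι₀ ≫ d = u := colimit.ι_desc s _
    have hι : Function.Surjective (F.map ι₀) := fun x => by
      obtain ⟨j, a, ha⟩ := Types.jointly_surjective_of_isColimit
        (isColimitOfPreserves (F ⋙ FintypeCat.incl) (colimit.isColimit J)) x
      exact ⟨a, ha⟩
    haveI : IsIso (F.map d) := by
      rw [ConcreteCategory.isIso_iff_bijective]
      refine ⟨fun x y hxy => ?_, fun z => ?_⟩
      · obtain ⟨a, rfl⟩ := hι x
        obtain ⟨b, rfl⟩ := hι y
        have hu : F.map u a = F.map u b := by
          rw [← hd, F.map_comp, FintypeCat.comp_apply, FintypeCat.comp_apply]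
          exact hxy
        haveI := (isGalois_iff_pretransitive F A).1 hA
        obtain ⟨σ, (hσ : F.map σ.hom a = b)⟩ := MulAction.exists_smul_eq (Aut A) a b
        have hσH : σ ∈ H := evaluation_injective_of_isConnected F A V a (by
          show F.map (σ.hom ≫ u) a = F.map u a
          rw [F.map_comp, FintypeCat.comp_apply, hσ, hu])
        have hw : σ.hom ≫ ι₀ = ι₀ := colimit.w J (⟨σ, hσH⟩ : H)
        rw [← hσ, ← FintypeCat.comp_apply, ← F.map_comp, hw]
      · haveI : Nonempty (F.obj A) := nonempty_fiber_of_isConnected F A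
        obtain ⟨a, rfl⟩ := surjective_of_nonempty_fiber_of_isConnected F u z
        refine ⟨F.map ι₀ a, ?_⟩
        rw [← FintypeCat.comp_apply, ← F.map_comp, hd]
    haveI : IsIso d := isIso_of_reflects_iso d F
    exact ⟨colimit J', ⟨preservesColimitIso E J' ≪≫ HasColimit.isoOfNatIso η ≪≫ asIso d⟩⟩
  refine ⟨fun V => ?_⟩
  obtain ⟨ι, hι, f, t, hf⟩ := has_decomp_connected_components' V
  choose Y hY using fun j => hconn (f j) (hf j)
  haveI : PreservesColimitsOfShape (Discrete ι) F' := inferInstance
  haveI : PreservesColimitsOfShape (Discrete ι) (E ⋙ F) := preservesColimitsOfShape_of_natIso i.symm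
  haveI : ReflectsColimitsOfShape (Discrete ι) F := reflectsColimitsOfShape_of_reflectsIsomorphisms
  haveI : PreservesColimitsOfShape (Discrete ι) E := preservesColimitsOfShape_of_reflects_of_preserves E F
  exact ⟨∐ Y, ⟨PreservesCoproduct.iso E Y ≪≫ Sigma.mapIso (fun j => (hY j).some) ≪≫ t⟩⟩

end SpecPrime

end
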