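import Groth.Agent.FEtProperLib.SepClosed
import Groth.Agent.HensFormalLib.Apps
import Groth.Agent.NormalLib.KrullAkizuki
import Groth.Agent.WeilResLib.Fibre
import Groth.Agent.WeilResLib.GeomConn
import Groth.Agent.S0240
import Mathlib.RingTheory.DiscreteValuationRing.TFAE
import Mathlib.RingTheory.DedekindDomain.IntegralClosure

/-! # Integral domains over a strictly henselian base -/

set_option autoImplicit false
set_option linter.style.haveILetI false
set_option maxHeartbeats 800000

universe u

open CategoryTheory CategoryTheory.Limits AlgebraicGeometry FEtProper IsLocalRing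

noncomputable section

namespace SpecPrime

/-- The normalisation of a henselian DVR in a finite extension is a DVR. -/
theorem closure_dvr (A K L : Type u) [CommRing A] [IsDomain A] [IsDiscreteValuationRing A] [HenselianLocalRing A]
    [Field K] [Algebra A K] [IsFractionRing A K] [Field L] [Algebra K L] [Algebra A L] [IsScalarTower A K L]
    [FiniteDimensional K L] :
    IsFractionRing (integralClosure A L) L ∧ IsDiscreteValuationRing (integralClosure A L) := by
  haveI : IsFractionRing (integralClosure A L) L :=
    IsIntegralClosure.isFractionRing_of_finite_extension A K L (integralClosure A L)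
  refine ⟨‹_›, ?_⟩
  haveI : IsNoetherianRing (integralClosure A L) :=
    NormalLib.isNoetherianRing_of_between (R := A) K (L := L) (integralClosure A L) Subtype.val_injective
  haveI : Algebra.IsIntegral A (integralClosure A L) := inferInstance
  obtain ⟨_, _⟩ := HensFormalLib.henselian_of_integral_domain A (integralClosure A L)
  haveI : IsIntegrallyClosed (integralClosure A L) := integralClosure.isIntegrallyClosedOfFiniteExtension K
  haveI : Ring.DimensionLEOne (integralClosure A L) := inferInstance
  haveI : IsDedekindDomain (integralClosure A L) := { }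
  have hinj : Function.Injective (algebraMap A (integralClosure A L)) := fun a b h => by
    have h1 : algebraMap A L a = algebraMap A L b := congrArg Subtype.val h
    rw [IsScalarTower.algebraMap_apply A K L, IsScalarTower.algebraMap_apply A K L] at h1
    exact IsFractionRing.injective A K ((algebraMap K L).injective h1)
  have hnf : ¬ IsField (integralClosure A L) := fun h =>
    IsDiscreteValuationRing.not_isField A (isField_of_isIntegral_of_isField hinj h)
  exact ((IsDiscreteValuationRing.TFAE (integralClosure A L) hnf).out 0 2).2 ‹_›

variable {A : Type u} [CommRing A] {X : Scheme.{u}} (f : X ⟶ Spec (CommRingCat.of A)) [IsProper f]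

theorem restrict_comp {P Q T : Scheme.{u}} {a : P ⟶ Q} {b : Q ⟶ T} {c : P ⟶ T} (h : a ≫ b = c) :
    Nonempty (FEt.restrict b ⋙ FEt.restrict a ≅ FEt.restrict c) :=
  ⟨(MorphismProperty.Over.pullbackComp (P := FEt.prop.{u}) (Q := ⊤) a b).symm ≪≫
    eqToIso (congrArg FEt.restrict h)⟩

/-- Covers of the base change to an integral domain over a strictly henselian ring come from the base. -/
theorem isEquivalence_integral [HenselianLocalRing A] [IsSepClosed (ResidueField A)]
    (R : Type u) [CommRing R] [IsDomain R] [Algebra A R] [Algebra.IsIntegral A R] :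
    (FEt.restrict (pullback.fst f (spR A R))).IsEquivalence := by
  obtain ⟨hR, hloc⟩ := HensFormalLib.henselian_of_integral_domain A R
  haveI := hR; haveI := hloc
  obtain ⟨_, _⟩ := HensFormalLib.sepClosed_residue A R
  haveI hk : (FEt.restrict (pullback.fst f (spR A (ResidueField A)))).IsEquivalence := Groth.Agent.S0240.result A f
  let φ : ResidueField A →ₐ[A] ResidueField R :=
    IsScalarTower.toAlgHom A (ResidueField A) (ResidueField R)
  let s := Spec.map (CommRingCat.ofHom φ.toRingHom)
  haveI : Algebra.IsAlgebraic (ResidueField A) (ResidueField R) :=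
    inferInstance
  haveI : IsIntegralHom s := IsIntegralHom.SpecMap_iff.2
    (algebraMap_isIntegral_iff.2 Algebra.IsAlgebraic.isIntegral : (algebraMap (ResidueField A) (ResidueField R)).IsIntegral)
  haveI : UniversallyInjective s := GeomIrrLib.universallyInjective_specMap (ResidueField A) (ResidueField R)
  haveI : Surjective s := ⟨fun x => ⟨(⟨⊥, Ideal.isPrime_bot⟩ : PrimeSpectrum (ResidueField R)),
    @Subsingleton.elim (PrimeSpectrum (ResidueField A)) _ _ _⟩⟩
  have hb := isPullback_bc f φ
  haveI : IsIntegralHom (bc f φ) := MorphismProperty.of_isPullback hb.flip ‹IsIntegralHom s›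
  haveI : UniversallyInjective (bc f φ) := MorphismProperty.of_isPullback hb.flip ‹UniversallyInjective s›
  haveI : Surjective (bc f φ) := MorphismProperty.of_isPullback hb.flip ‹Surjective s›
  haveI : (FEt.restrict (bc f φ)).IsEquivalence := Groth.Agent.S0289.result _
  haveI hk' : (FEt.restrict (pullback.fst f (spR A (ResidueField R)))).IsEquivalence := by
    obtain ⟨e⟩ := restrict_comp (bc_fst f φ)
    haveI : (FEt.restrict (pullback.fst f (spR A (ResidueField A))) ⋙ FEt.restrict (bc f φ)).IsEquivalence :=
      Functor.isEquivalence_trans _ _
    exact Functor.isEquivalence_of_iso e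
  let ψ : R →ₐ[A] ResidueField R := IsScalarTower.toAlgHom A R (ResidueField R)
  let fR := pullback.snd f (spR A R)
  haveI : IsProper fR := MorphismProperty.pullback_snd _ _ ‹IsProper f›
  haveI hr : (FEt.restrict (pullback.fst fR (Spec.map (CommRingCat.ofHom (residue R))))).IsEquivalence :=
    Groth.Agent.S0240.result R fR
  have hp : IsPullback (bc f ψ) (pullback.snd f (spR A (ResidueField R))) fR
      (Spec.map (CommRingCat.ofHom (residue R))) := isPullback_bc f ψ
  haveI : (FEt.restrict hp.isoPullback.hom).IsEquivalence := Groth.Agent.S0289.result _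
  haveI : (FEt.restrict (bc f ψ)).IsEquivalence := by
    obtain ⟨e⟩ := restrict_comp hp.isoPullback_hom_fst
    haveI : (FEt.restrict (pullback.fst fR (Spec.map (CommRingCat.ofHom (residue R)))) ⋙
      FEt.restrict hp.isoPullback.hom).IsEquivalence := Functor.isEquivalence_trans _ _
    exact Functor.isEquivalence_of_iso e
  obtain ⟨e⟩ := restrict_comp (bc_fst f ψ)
  haveI : (FEt.restrict (pullback.fst f (spR A R)) ⋙ FEt.restrict (bc f ψ)).IsEquivalence :=
    Functor.isEquivalence_of_iso e.symm
  exact Functor.isEquivalence_of_comp_right _ (FEt.restrict (bc f ψ))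

/-- Base changes of a smooth proper morphism with connected geometric fibres are irreducible. -/
theorem irreducibleSpace_bc [Smooth f]
    (hfib : ∀ (K : Type u) [Field K] [IsAlgClosed K] (s : Spec (CommRingCat.of K) ⟶ Spec (CommRingCat.of A)),
      ConnectedSpace ↥(pullback f s))
    (R : Type u) [CommRing R] [IsDomain R] [Algebra A R] :
    IrreducibleSpace ↥(pullback f (spR A R)) := by
  haveI : GeometricallyConnected f := Groth.Agent.WeilRes.geometricallyConnected_of_geomPt f fun s => hfib _ _
  let g := pullback.snd f (spR A R)
  haveI : Smooth g := MorphismProperty.pullback_snd _ _ ‹Smooth f›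
  haveI : GeometricallyConnected g := MorphismProperty.pullback_snd _ _ ‹GeometricallyConnected f›
  haveI : IrreducibleSpace ↥(Spec (CommRingCat.of R)) := inferInstanceAs (IrreducibleSpace (PrimeSpectrum R))
  have hop : IsOpenMap g.base := g.isOpenMap
  have hne : ((Set.univ : Set ↥(Spec (CommRingCat.of R))) ∩ Set.range g.base).Nonempty :=
    ⟨Classical.arbitrary _, trivial, g.surjective _⟩
  have h := (IrreducibleSpace.isIrreducible_univ _).preimage_of_isPreirreducible_fiber g.base hop
    (fun x => (Groth.Agent.WeilRes.isIrreducible_preimage_singleton g x).2) hne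
  rw [Set.preimage_univ] at h
  exact (irreducibleSpace_def _).2 h

end SpecPrime

end
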