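import Groth.Agent.SpecPrimeLib.Descend
import Groth.Agent.SpecPrimeLib.Base
import Groth.Agent.AbhyCurveLib.Scheme

/-! # Galois covers of the geometric generic fibre of degree invertible on the base extend -/

set_option autoImplicit false
set_option linter.style.haveILetI false
set_option maxHeartbeats 1600000
set_option synthInstance.maxHeartbeats 200000

universe u

open CategoryTheory CategoryTheory.Limits AlgebraicGeometry FEtProper

noncomputable section

namespace SpecPrime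

theorem mem_essImage (A : Type u) [CommRing A] [IsDomain A]
    [IsDiscreteValuationRing A] [HenselianLocalRing A] [IsSepClosed (IsLocalRing.ResidueField A)]
    (Ω : Type u) [Field Ω] [IsAlgClosed Ω] [Algebra A Ω] (hinj : Function.Injective (algebraMap A Ω))
    [Algebra.IsAlgebraic A Ω]
    {X : Scheme.{u}} (f : X ⟶ Spec (CommRingCat.of A)) [IsProper f] [Smooth f]
    (hfib : ∀ (K : Type u) [Field K] [IsAlgClosed K] (s : Spec (CommRingCat.of K) ⟶ Spec (CommRingCat.of A)),
      ConnectedSpace ↥(pullback f s))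
    (Z : FEt.Cat (pullback f (spR A Ω)))
    (hgal : ∀ (Ω' : Type u) [Field Ω'] [IsAlgClosed Ω'] (ξ : Spec (CommRingCat.of Ω') ⟶ pullback f (spR A Ω))
      (s t : FEt.fiberObj ξ Z), ∃ σ : Aut Z, (FEt.fiber ξ).map σ.hom s = t)
    (hn : IsUnit ((Nat.card (Aut Z) : ℕ) : A)) :
    (FEt.restrict (pullback.fst f (spR A Ω))).essImage Z := by
  classical
  obtain ⟨n, hcard⟩ : ∃ n, Nat.card (Aut Z) = n := ⟨_, rfl⟩
  rw [hcard] at hn
  have hn0 : n ≠ 0 := fun h0 => by simp [h0] at hn
  haveI : Finite (Aut Z) := Nat.finite_of_card_ne_zero (hcard ▸ hn0)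
  let K := FractionRing A
  letI : Algebra K Ω := (IsFractionRing.lift hinj).toAlgebra
  haveI : IsScalarTower A K Ω := IsScalarTower.of_algebraMap_eq fun a =>
    (IsFractionRing.lift_algebraMap hinj a).symm
  haveI : Algebra.IsAlgebraic K Ω := (IsFractionRing.comap_isAlgebraic_iff (A := A) (K := K) (C := Ω)).1 inferInstance
  obtain ⟨L, _, _, _, _, _, φ, W, w, _, _, q, hq, _, hE⟩ := exists_model f K Ω Z
  obtain ⟨_, _⟩ := closure_dvr A K L
  let B := integralClosure A L
  haveI : Algebra.IsIntegral A B := inferInstance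
  have hnB : IsUnit ((n : ℕ) : B) := by
    have := hn.map (algebraMap A B)
    rwa [map_natCast] at this
  obtain ⟨ϖ, hϖ⟩ := IsDiscreteValuationRing.exists_irreducible B
  let fB := pullback.snd f (spR A B)
  haveI : Smooth fB := MorphismProperty.pullback_snd _ _ ‹Smooth f›
  haveI : IrreducibleSpace ↥(pullback f (spR A B)) := irreducibleSpace_bc f hfib B
  let η := Spec.map (CommRingCat.ofHom (algebraMap B L))
  let ψ : B →ₐ[A] L := IsScalarTower.toAlgHom A B L
  have hp : IsPullback (bc f ψ) (pullback.snd f (spR A L)) fB η := isPullback_bc f ψ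
  let j := hp.isoPullback
  let v : Z.left ⟶ pullback f (spR A Ω) := Z.hom
  let Xt : FEt.Cat (pullback fB η) := MorphismProperty.Over.mk ⊤ (w ≫ j.hom) ⟨inferInstance, inferInstance⟩
  have hσ : ∀ σ : Aut Z, σ.hom.left ≫ v = v := fun σ => MorphismProperty.Over.w σ.hom
  choose e he he' using hE
  let Ψ : Aut Z → Aut Xt := fun σ =>
    MorphismProperty.Over.isoMk (A := Xt) (B := Xt) (e σ) (by
      show (e σ).hom ≫ w ≫ j.hom = w ≫ j.hom
      rw [← Category.assoc, he])
  let M : Aut Xt → (W ⟶ W) := fun m => m.hom.left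
  have hΨ : ∀ σ, q ≫ M (Ψ σ) = σ.hom.left ≫ q := he'
  have hMinv : ∀ m, M m ≫ M m⁻¹ = 𝟙 W := fun m => congrArg (fun a : Xt ⟶ Xt => a.left) m.hom_inv_id
  -- the bijection of automorphism groups
  have hΨb : Function.Bijective Ψ := by
    refine ⟨fun σ σ' h => ?_, fun m => ?_⟩
    · apply Iso.ext
      apply MorphismProperty.Over.Hom.ext
      refine hq.hom_ext ?_ ((hσ σ).trans (hσ σ').symm)
      exact (hΨ σ).symm.trans ((congrArg (fun t => q ≫ M t) h).trans (hΨ σ'))
    · have hw : ∀ m : Aut Xt, M m ≫ w = w := fun m => by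
        have h1 : M m ≫ w ≫ j.hom = w ≫ j.hom := MorphismProperty.Over.w m.hom
        exact (cancel_mono j.hom).1 ((Category.assoc _ _ _).trans h1)
      let l : Aut Xt → (Z.left ⟶ Z.left) := fun m => hq.lift (q ≫ M m) v (by
        rw [Category.assoc, hw, hq.w])
      have hl : ∀ m, l m ≫ q = q ≫ M m := fun m => hq.lift_fst _ _ _
      have hl' : ∀ m, l m ≫ v = v := fun m => hq.lift_snd _ _ _
      have hinv : ∀ m, l m ≫ l m⁻¹ = 𝟙 _ := fun m => by
        refine hq.hom_ext ?_ ?_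
        · rw [Category.assoc, hl, ← Category.assoc, hl, Category.assoc, hMinv, Category.comp_id, Category.id_comp]
        · show (l m ≫ l m⁻¹) ≫ v = 𝟙 _ ≫ v
          rw [Category.assoc, hl', hl', Category.id_comp]
      let σ : Aut Z := MorphismProperty.Over.isoMk (A := Z) (B := Z)
        ⟨l m, l m⁻¹, hinv m, by simpa using hinv m⁻¹⟩ (hl' m)
      refine ⟨σ, Iso.ext (MorphismProperty.Over.Hom.ext ?_)⟩
      show M (Ψ σ) = M m
      exact (cancel_epi q).1 ((hΨ σ).trans (hl m))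
  have hdeg : Nat.card (Aut Xt) = n := (Nat.card_congr (Equiv.ofBijective Ψ hΨb)).symm.trans hcard
  have hgalX : ∀ (Ω' : Type u) [Field Ω'] [IsAlgClosed Ω'] (ξ : Spec (CommRingCat.of Ω') ⟶ pullback fB η)
      (s s' : FEt.fiberObj ξ Xt), ∃ σ : Aut Xt, (FEt.fiber ξ).map σ.hom s = s' := by
    intro Ω' _ _ ξ s s'
    let pL : Spec (CommRingCat.of Ω') ⟶ Spec (CommRingCat.of L) := ξ ≫ j.inv ≫ pullback.snd f (spR A L)
    letI : Algebra L Ω' := (Spec.preimage pL).hom.toAlgebra
    letI : Algebra L Ω := φ.toRingHom.toAlgebra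
    haveI : IsScalarTower K L Ω := IsScalarTower.of_algebraMap_eq' (IsLocalization.ringHom_ext (nonZeroDivisors A)
      (RingHom.ext fun a => by
        show algebraMap K Ω (algebraMap A K a) = φ (algebraMap K L (algebraMap A K a))
        rw [← IsScalarTower.algebraMap_apply, ← IsScalarTower.algebraMap_apply, AlgHom.commutes]))
    haveI : Algebra.IsAlgebraic L Ω := Algebra.IsAlgebraic.tower_top (K := K) L
    let θ : Ω →ₐ[L] Ω' := IsAlgClosed.lift
    have hθ : Spec.map (CommRingCat.ofHom θ.toRingHom) ≫ Spec.map (CommRingCat.ofHom φ.toRingHom) = pL := by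
      rw [← Spec.map_comp, ← Spec.map_preimage pL]
      exact congrArg Spec.map (CommRingCat.hom_ext (RingHom.ext fun x => θ.commutes x))
    let ξ' : Spec (CommRingCat.of Ω') ⟶ pullback f (spR A Ω) :=
      pullback.lift (ξ ≫ j.inv ≫ pullback.fst f (spR A L)) (Spec.map (CommRingCat.ofHom θ.toRingHom))
        (by rw [← spec_comp φ, ← Category.assoc (Spec.map (CommRingCat.ofHom θ.toRingHom)), hθ]; simp only [pL,
          Category.assoc, pullback.condition])
    have hξ' : ξ' ≫ bc f φ = ξ ≫ j.inv := by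
      apply pullback.hom_ext
      · rw [Category.assoc, bc_fst, pullback.lift_fst, Category.assoc]
      · rw [Category.assoc, bc_snd, pullback.lift_snd_assoc, hθ]
        simp only [pL, Category.assoc]
    let sv : FEt.fiberObj ξ Xt → (Spec (CommRingCat.of Ω') ⟶ W) := fun t => t.1
    have hsv : ∀ t, sv t ≫ w ≫ j.hom = ξ := fun t => t.2
    let tv : FEt.fiberObj ξ' Z → (Spec (CommRingCat.of Ω') ⟶ Z.left) := fun t => t.1
    let tr : FEt.fiberObj ξ Xt → FEt.fiberObj ξ' Z := fun t => ⟨hq.lift (sv t) ξ' ((cancel_mono j.hom).1 (by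
        rw [hξ', Category.assoc, Category.assoc, Iso.inv_hom_id, Category.comp_id]
        exact hsv t)), hq.lift_snd _ _ _⟩
    obtain ⟨σ, hσs⟩ := hgal Ω' ξ' (tr s) (tr s')
    refine ⟨Ψ σ, Subtype.ext ?_⟩
    show sv s ≫ M (Ψ σ) = sv s'
    have h1 : tv (tr s) ≫ σ.hom.left = tv (tr s') := congrArg Subtype.val hσs
    have hs : ∀ t, tv (tr t) ≫ q = sv t := fun t => hq.lift_fst _ _ _
    rw [← hs s, ← hs s', Category.assoc, hΨ, ← Category.assoc, h1]
  obtain ⟨Y1, ⟨i1⟩⟩ := AbhyCurve.galois_extends ϖ hϖ n hnB fB Xt hgalX hdeg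
  -- back to the base
  let C1 := AdjoinRoot (Polynomial.X ^ n - Polynomial.C ϖ)
  obtain ⟨_, _, -, hroot⟩ := AbhyCurve.root_extension B ϖ hϖ n (Nat.one_le_iff_ne_zero.2 hn0)
  haveI : Module.Finite B C1 := (Polynomial.monic_X_pow_sub_C ϖ hn0).finite_adjoinRoot
  haveI : Algebra.IsIntegral A C1 := Algebra.IsIntegral.trans B
  let σ1 := Spec.map (CommRingCat.ofHom (algebraMap B C1))
  let ψ1 : B →ₐ[A] C1 := IsScalarTower.toAlgHom A B C1
  have hp1 : IsPullback (bc f ψ1) (pullback.snd f (spR A C1)) fB σ1 := isPullback_bc f ψ1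
  let j1 := hp1.isoPullback
  obtain ⟨r, hr⟩ := IsAlgClosed.exists_pow_nat_eq (φ (ψ ϖ)) (Nat.pos_of_ne_zero hn0)
  let θ0 : C1 →+* Ω := AdjoinRoot.lift (φ.comp ψ).toRingHom r (by
    simp [Polynomial.eval₂_sub, Polynomial.eval₂_pow, hr])
  let θ : C1 →ₐ[A] Ω := { θ0 with
    commutes' := fun a => by
      show θ0 (algebraMap A C1 a) = _
      rw [IsScalarTower.algebraMap_apply A B C1, AdjoinRoot.algebraMap_eq]
      exact (AdjoinRoot.lift_of _).trans ((φ.comp ψ).commutes a) }
  have hθψ : θ.comp ψ1 = φ.comp ψ := AlgHom.ext fun b => by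
    show θ0 (algebraMap B C1 b) = _
    rw [AdjoinRoot.algebraMap_eq]
    exact AdjoinRoot.lift_of _
  haveI := isEquivalence_integral f C1
  let Y0 := (FEt.restrict (pullback.fst f (spR A C1))).objPreimage ((FEt.restrict j1.hom).obj Y1)
  let i0 := (FEt.restrict (pullback.fst f (spR A C1))).objObjPreimageIso ((FEt.restrict j1.hom).obj Y1)
  let c : pullback f (spR A Ω) ⟶ pullback (pullback.fst fB η) (pullback.fst fB σ1) :=
    pullback.lift (bc f φ ≫ j.hom) (bc f θ ≫ j1.hom) (by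
      rw [Category.assoc, Category.assoc, hp.isoPullback_hom_fst, hp1.isoPullback_hom_fst, ← bc_comp, ← bc_comp, hθψ])
  obtain ⟨a1⟩ := restrict_comp (pullback.lift_fst (bc f φ ≫ j.hom) (bc f θ ≫ j1.hom) _ : c ≫ _ = _)
  obtain ⟨a2⟩ := restrict_comp (pullback.lift_snd (bc f φ ≫ j.hom) (bc f θ ≫ j1.hom) _ : c ≫ _ = _)
  obtain ⟨a3⟩ := restrict_comp (rfl : bc f θ ≫ j1.hom = _)
  obtain ⟨a4⟩ := restrict_comp (bc_fst f θ)
  have hsq : IsPullback q v (w ≫ j.hom) (bc f φ ≫ j.hom) :=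
    hq.of_iso (Iso.refl _) (Iso.refl _) (Iso.refl _) j (by simp) (by simp; rfl) (by simp) (by simp)
  let iZ : (FEt.restrict (bc f φ ≫ j.hom)).obj Xt ≅ Z :=
    MorphismProperty.Over.isoMk hsq.isoPullback.symm hsq.isoPullback_inv_snd
  exact ⟨Y0, ⟨a4.symm.app Y0 ≪≫ (FEt.restrict (bc f θ)).mapIso i0 ≪≫ a3.app Y1 ≪≫ a2.symm.app Y1 ≪≫
    (FEt.restrict c).mapIso i1 ≪≫ a1.app Xt ≪≫ iZ⟩⟩

end SpecPrime

end
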