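import Groth.Agent.FEtProperLib.Pb
import Groth.Prelude.Def_PiSp

/-! # Covers of the geometric generic fibre and their automorphisms descend to a finite extension -/

set_option autoImplicit false
set_option linter.style.haveILetI false
set_option maxHeartbeats 800000

universe u

open CategoryTheory CategoryTheory.Limits AlgebraicGeometry FEtProper

noncomputable section

namespace SpecPrime

/-- Finitely many morphisms over `S` out of the base change to an algebraic extension descend. -/
theorem descend_homs (L Ω : Type u) [Field L] [Field Ω] [Algebra L Ω] [Algebra.IsAlgebraic L Ω]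
    {S W : Scheme.{u}} (s : S ⟶ Spec (CommRingCat.of L)) [QuasiCompact s] [QuasiSeparated s]
    (w : W ⟶ S) [IsFinite w] [Etale w] {ι : Type u} [Finite ι]
    (τ : ι → (pullback (w ≫ s) (spR L Ω) ⟶ W)) (hτ : ∀ m, τ m ≫ w = pullback.fst _ _ ≫ w) :
    ∃ (L' : IntermediateField L Ω) (_ : FiniteDimensional L L') (g : ι → (pullback (w ≫ s) (spR L L') ⟶ W)),
      (∀ m, g m ≫ w = pullback.fst _ _ ≫ w) ∧ ∀ m, bc (w ≫ s) L'.val ≫ g m = τ m := by
  let f := w ≫ s
  let A := ConsLib.fgSys L Ω (Iso.refl (Spec (CommRingCat.of L)))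
  let B := RichLib.LimBC.pb A f
  haveI : CompactSpace W := QuasiCompact.compactSpace_of_compactSpace f
  haveI : QuasiSeparatedSpace W := quasiSeparatedSpace_of_quasiSeparated f
  haveI : ∀ i j (b : i ⟶ j), IsAffineHom (B.D.map b) := fun _ _ b => B.affine_map b
  haveI : ∀ i, CompactSpace (B.D.obj i) := fun i => B.compactSpace_obj i
  haveI : ∀ i, QuasiSeparatedSpace (B.D.obj i) := fun i => B.quasiSeparatedSpace_obj i
  let e0 : pullback f (spR L Ω) ≅ B.c.pt := (pullback.congrHom rfl (Category.comp_id _)).symm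
  have u1 : e0.hom ≫ pullback.fst f A.s = pullback.fst f _ := by
    show (pullback.congrHom rfl (Category.comp_id _)).inv ≫ _ = _
    rw [Iso.inv_comp_eq]; exact ((pullback.lift_fst _ _ _).trans (Category.comp_id _)).symm
  have u2 : e0.hom ≫ pullback.snd f A.s = pullback.snd f _ := by
    show (pullback.congrHom rfl (Category.comp_id _)).inv ≫ _ = _
    rw [Iso.inv_comp_eq]; exact ((pullback.lift_snd _ _ _).trans (Category.comp_id _)).symm
  let nt : B.D ⟶ (Functor.const _).obj S :=
    { app := fun i => B.t i ≫ w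
      naturality := fun i j a => by
        show B.D.map a ≫ B.t j ≫ w = (B.t i ≫ w) ≫ 𝟙 _
        rw [← Category.assoc, B.w a, Category.comp_id] }
  have h : ∀ m, ∃ (i : (ConsLib.FGSub L Ω)ᵒᵖ) (g : B.D.obj i ⟶ W),
      B.c.π.app i ≫ g = e0.inv ≫ τ m ∧ g ≫ w = B.t i ≫ w := fun m =>
    Scheme.exists_π_app_comp_eq_of_locallyOfFinitePresentation B.D nt w B.c B.hc (e0.inv ≫ τ m) (by
      ext i
      show B.c.π.app i ≫ B.t i ≫ w = (e0.inv ≫ τ m) ≫ w
      rw [← Category.assoc, B.hs i, Category.assoc, hτ, ← Category.assoc]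
      exact congrArg (· ≫ w) ((Iso.eq_inv_comp e0).mpr u1))
  choose i g hg hg' using h
  haveI := Fintype.ofFinite ι
  classical
  obtain ⟨j, hj⟩ := IsCofiltered.inf_objs_exists (Finset.univ.image i)
  let φ : ∀ m, j ⟶ i m := fun m => (hj (Finset.mem_image_of_mem i (Finset.mem_univ m))).some
  let L' : IntermediateField L Ω := j.unop.1.toIntermediateField' (Subalgebra.isField_of_algebraic _)
  haveI hfinL : FiniteDimensional L L' := by
    haveI : Algebra.FiniteType L j.unop.1 := ⟨(Subalgebra.fg_top _).mpr j.unop.2⟩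
    haveI : Algebra.IsAlgebraic L j.unop.1 := Algebra.IsAlgebraic.of_injective j.unop.1.val Subtype.val_injective
    haveI : Algebra.IsIntegral L j.unop.1 := Algebra.IsAlgebraic.isIntegral
    exact (Algebra.IsIntegral.finite : Module.Finite L j.unop.1)
  let τ' : pullback f (spR L L') ≅ B.D.obj j :=
    pullback.congrHom rfl (show spR L L' = A.t j from (Category.comp_id _).symm)
  have t1 : τ'.hom ≫ B.t j = pullback.fst f (spR L L') :=
    (pullback.lift_fst _ _ _).trans (Category.comp_id _)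
  have t1' : τ'.inv ≫ pullback.fst _ _ = pullback.fst f (A.t j) := by
    rw [Iso.inv_comp_eq]; exact t1.symm
  have t2' : τ'.inv ≫ pullback.snd _ _ = pullback.snd f (A.t j) := by
    rw [Iso.inv_comp_eq]; exact ((pullback.lift_snd _ _ _).trans (Category.comp_id _)).symm
  have hb : e0.hom ≫ B.c.π.app j ≫ τ'.inv = bc f L'.val := by
    apply pullback.hom_ext
    · rw [bc_fst, Category.assoc, Category.assoc, t1']
      exact (congrArg (e0.hom ≫ ·) (RichLib.LimBC.pbπ_fst A f j)).trans u1
    · rw [bc_snd, Category.assoc, Category.assoc, t2']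
      refine (congrArg (e0.hom ≫ ·) (RichLib.LimBC.pbπ_snd A f j)).trans ?_
      exact ((Category.assoc _ _ _).symm.trans (congrArg (· ≫ A.c.π.app j) u2))
  refine ⟨L', hfinL, fun m => τ'.hom ≫ B.D.map (φ m) ≫ g m, fun m => ?_, fun m => ?_⟩
  · rw [Category.assoc, Category.assoc, hg', ← Category.assoc (B.D.map (φ m)), B.w, ← Category.assoc, t1]
  · rw [← hb]
    simp only [Category.assoc, Iso.inv_hom_id_assoc]
    rw [← Category.assoc (B.c.π.app j), B.c.w, hg, Iso.hom_inv_id_assoc]

variable {A : Type u} [CommRing A] [IsDomain A] {X : Scheme.{u}} (f : X ⟶ Spec (CommRingCat.of A))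
  [QuasiCompact f] [QuasiSeparated f]

/-- A cover of the geometric generic fibre and its automorphisms are defined over a finite extension. -/
theorem exists_model (K Ω : Type u) [Field K] [Algebra A K] [IsFractionRing A K] [Field Ω] [Algebra A Ω]
    [Algebra K Ω] [IsScalarTower A K Ω] [Algebra.IsAlgebraic K Ω]
    (Z : FEt.Cat (pullback f (spR A Ω))) [Finite (Aut Z)] :
    ∃ (L : Type u) (_ : Field L) (_ : Algebra K L) (_ : Algebra A L) (_ : IsScalarTower A K L)
      (_ : FiniteDimensional K L) (φ : L →ₐ[A] Ω) (W : Scheme.{u}) (w : W ⟶ pullback f (spR A L))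
      (_ : IsFinite w) (_ : Etale w) (q : Z.left ⟶ W),
      IsPullback q Z.hom w (bc f φ) ∧ Epi q ∧
        ∀ σ : Aut Z, ∃ e : W ≅ W, e.hom ≫ w = w ∧ q ≫ e.hom = σ.hom.left ≫ q := by
  classical
  let v : Z.left ⟶ pullback f (spR A Ω) := Z.hom
  haveI : IsFinite v := Z.prop.1
  haveI : Etale v := Z.prop.2
  obtain ⟨D, hD, W0, w0, hw0f, hw0e, hw0⟩ := exists_fg_model (f := f) Ω v
  haveI := hw0f; haveI := hw0e
  obtain ⟨t, ht⟩ := hD
  let L0 : IntermediateField K Ω := IntermediateField.adjoin K (t : Set Ω)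
  haveI : FiniteDimensional K L0 :=
    IntermediateField.finiteDimensional_adjoin fun x _ => Algebra.IsIntegral.isIntegral x
  have hDL : D ≤ L0.toSubalgebra.restrictScalars A := by
    rw [← ht]
    exact Algebra.adjoin_le fun x hx => IntermediateField.subset_adjoin K _ hx
  let φ0 : L0 →ₐ[A] Ω := L0.val.restrictScalars A
  let ι0 : D →ₐ[A] L0 :=
    { toFun := fun x => ⟨x.1, hDL x.2⟩
      map_one' := rfl
      map_mul' := fun _ _ => rfl
      map_zero' := rfl
      map_add' := fun _ _ => rfl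
      commutes' := fun a => Subtype.ext rfl }
  obtain ⟨W1, w1, hw1⟩ := Pb.exists_pb (f := f) ι0 w0
  haveI := hw1.isFinite; haveI := hw1.etale
  obtain ⟨q1, hq1⟩ : Pb f φ0 w1 v := Pb.cancel hw1 (hw0.congr fun _ => rfl)
  let s1 := pullback.snd f (spR A L0)
  haveI : QuasiCompact s1 := MorphismProperty.pullback_snd _ _ inferInstance
  haveI : QuasiSeparated s1 := MorphismProperty.pullback_snd _ _ inferInstance
  haveI : Algebra.IsAlgebraic L0 Ω := Algebra.IsAlgebraic.tower_top (K := K) L0
  have hP : IsPullback q1 (v ≫ pullback.snd f (spR A Ω)) (w1 ≫ s1) (spR L0 Ω) :=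
    hq1.paste_vert (isPullback_bc f φ0)
  let η := hP.isoPullback
  let τ : Aut Z → (pullback (w1 ≫ s1) (spR L0 Ω) ⟶ W1) := fun σ => η.inv ≫ σ.hom.left ≫ q1
  have hσ : ∀ σ : Aut Z, σ.hom.left ≫ v = v := fun σ => MorphismProperty.Over.w σ.hom
  obtain ⟨L', hfin', g, hg, hg'⟩ := descend_homs L0 Ω s1 w1 τ fun σ => by
    simp only [τ, Category.assoc, hq1.w]
    rw [← Category.assoc σ.hom.left, hσ, ← hq1.w, ← Category.assoc, hP.isoPullback_inv_fst]
  haveI : IsScalarTower A L0 Ω := IsScalarTower.of_algebraMap_eq fun a => rfl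
  letI algA : Algebra A L' := ((algebraMap L0 L').comp (algebraMap A L0)).toAlgebra
  haveI : IsScalarTower A L0 L' := IsScalarTower.of_algebraMap_eq fun _ => rfl
  haveI : IsScalarTower K L0 L' := IsScalarTower.of_algebraMap_eq fun _ => rfl
  haveI towK : IsScalarTower A K L' := IsScalarTower.of_algebraMap_eq fun a =>
    congrArg (algebraMap L0 L') (IsScalarTower.algebraMap_apply A K L0 a)
  haveI finK : FiniteDimensional K L' := Module.Finite.trans L0 L'
  let φ : L' →ₐ[A] Ω :=
    { L'.val.toRingHom with commutes' := fun a => (IsScalarTower.algebraMap_apply A L0 Ω a).symm }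
  let ι1 : L0 →ₐ[A] L' := IsScalarTower.toAlgHom A L0 L'
  obtain ⟨W2, w2, q2, hq2⟩ := Pb.exists_pb (f := f) ι1 w1
  haveI : IsFinite w2 := MorphismProperty.of_isPullback hq2 inferInstance
  haveI : Etale w2 := MorphismProperty.of_isPullback hq2 inferInstance
  have hcomp : bc f φ0 = bc f φ ≫ bc f ι1 := by rw [← bc_comp]; rfl
  let q : Z.left ⟶ W2 := hq2.lift q1 (v ≫ bc f φ) (by rw [hq1.w, hcomp, Category.assoc])
  have hq' : q ≫ q2 = q1 := hq2.lift_fst _ _ _
  have hqw : q ≫ w2 = v ≫ bc f φ := hq2.lift_snd _ _ _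
  have hq : IsPullback q v w2 (bc f φ) := by
    refine IsPullback.of_right ?_ hqw hq2
    rw [hq', ← hcomp]
    exact hq1
  haveI : Epi q := by
    let sφ := Spec.map (CommRingCat.ofHom φ.toRingHom)
    haveI : Flat sφ := HasRingHomProperty.Spec_iff.2
      (RingHom.flat_algebraMap_iff.2 (inferInstance : Module.Flat L' Ω) : (algebraMap L' Ω).Flat)
    haveI : Surjective sφ := ⟨fun x => ⟨(⟨⊥, Ideal.isPrime_bot⟩ : PrimeSpectrum Ω),
      @Subsingleton.elim (PrimeSpectrum L') _ _ _⟩⟩
    haveI : QuasiCompact sφ := inferInstance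
    have hb := isPullback_bc f φ
    haveI : Flat (bc f φ) := MorphismProperty.of_isPullback hb.flip ‹Flat sφ›
    haveI : Surjective (bc f φ) := MorphismProperty.of_isPullback hb.flip ‹Surjective sφ›
    haveI : QuasiCompact (bc f φ) := MorphismProperty.of_isPullback hb.flip ‹QuasiCompact sφ›
    haveI : Flat q := MorphismProperty.of_isPullback hq.flip ‹Flat (bc f φ)›
    haveI : Surjective q := MorphismProperty.of_isPullback hq.flip ‹Surjective (bc f φ)›
    haveI : QuasiCompact q := MorphismProperty.of_isPullback hq.flip ‹QuasiCompact (bc f φ)›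
    exact Flat.epi_of_flat_of_surjective q
  have hP2 : IsPullback q2 (w2 ≫ pullback.snd f (spR A L')) (w1 ≫ s1) (spR L0 L') :=
    hq2.paste_vert (isPullback_bc f ι1)
  let η2 := hP2.isoPullback
  have hη : q ≫ η2.hom = η.hom ≫ bc (w1 ≫ s1) L'.val := by
    apply pullback.hom_ext
    · rw [Category.assoc, hP2.isoPullback_hom_fst, hq', Category.assoc, bc_fst, hP.isoPullback_hom_fst]
    · rw [Category.assoc, hP2.isoPullback_hom_snd, ← Category.assoc, hqw, Category.assoc, bc_snd, Category.assoc,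
        bc_snd, hP.isoPullback_hom_snd_assoc, Category.assoc]
  let E : Aut Z → (W2 ⟶ W2) := fun σ => hq2.lift (η2.hom ≫ g σ) w2 (by
    rw [Category.assoc, hg, ← Category.assoc, hP2.isoPullback_hom_fst, hq2.w])
  have hEw : ∀ σ, E σ ≫ w2 = w2 := fun σ => hq2.lift_snd _ _ _
  have hE : ∀ σ, q ≫ E σ = σ.hom.left ≫ q := fun σ => by
    apply hq2.hom_ext
    · rw [Category.assoc, Category.assoc, hq', hq2.lift_fst, ← Category.assoc, hη, Category.assoc, hg']
      simp only [τ, Iso.hom_inv_id_assoc]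
    · rw [Category.assoc, Category.assoc, hEw, hqw, ← Category.assoc, hσ]
  have hinv : ∀ σ : Aut Z, E σ ≫ E σ⁻¹ = 𝟙 _ := fun σ => by
    rw [← cancel_epi q, ← Category.assoc, hE, Category.assoc, hE, ← Category.assoc, Category.comp_id]
    have : σ.hom.left ≫ (σ⁻¹).hom.left = 𝟙 _ := congrArg (fun m : Z ⟶ Z => m.left) σ.hom_inv_id
    rw [this, Category.id_comp]
  exact ⟨L', inferInstance, inferInstance, algA, towK, finK, φ, W2, w2, ‹_›, ‹_›, q, hq,
    ‹_›, fun σ => ⟨⟨E σ, E σ⁻¹, hinv σ, by simpa using hinv σ⁻¹⟩, hEw σ, hE σ⟩⟩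

end SpecPrime

end
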